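import Mathlib

/-!
Elementary abelian `p`-subgroups of permutation groups all of whose nontrivial orbits have length
`p`, and the exponents by which normalising permutations act on them.
-/

open Equiv

set_option autoImplicit false
set_option linter.unusedSectionVars false

namespace CfsgLib.KpR

variable {α : Type*} [Fintype α] [DecidableEq α]

theorem pow_fix {g : Perm α} {z : α} (h : g z = z) (n : ℕ) : (g ^ n) z = z := by
  induction n with
  | zero => rfl
  | succ n ih => rw [pow_succ, Perm.mul_apply, h, ih]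

/-- The orbit of a point under a subgroup of permutations. -/
def orb (P : Subgroup (Perm α)) (z : α) : Set α := {y | ∃ u ∈ P, u z = y}

theorem self_mem_orb (P : Subgroup (Perm α)) (z : α) : z ∈ orb P z := ⟨1, P.one_mem, rfl⟩

theorem orb_eq_of_mem {P : Subgroup (Perm α)} {z y : α} (h : y ∈ orb P z) : orb P y = orb P z := by
  obtain ⟨u, hu, rfl⟩ := h
  ext x
  constructor
  · rintro ⟨v, hv, rfl⟩; exact ⟨v * u, P.mul_mem hv hu, rfl⟩
  · rintro ⟨v, hv, rfl⟩
    refine ⟨v * u⁻¹, P.mul_mem hv (P.inv_mem hu), ?_⟩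
    rw [Perm.mul_apply, show u⁻¹ (u z) = z from u.symm_apply_apply z]

/-- The hypotheses: `R` is fixed pointwise and all other orbits have length `p`. -/
structure Elem (p : ℕ) (R : Finset α) (P : Subgroup (Perm α)) : Prop where
  prime : p.Prime
  fixR : ∀ u ∈ P, ∀ z ∈ R, u z = z
  cardOrb : ∀ z, z ∉ R → (orb P z).ncard = p
  isPGroup : IsPGroup p P

namespace Elem

variable {p : ℕ} {R : Finset α} {P : Subgroup (Perm α)} (E : Elem p R P)
include E

theorem apply_notMem {u : Perm α} (hu : u ∈ P) {z : α} (hz : z ∉ R) : u z ∉ R := fun h =>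
  hz (by rw [← u.injective (E.fixR u hu _ h)]; exact h)

theorem pow_eq_one {u : Perm α} (hu : u ∈ P) : u ^ p = 1 := by
  obtain ⟨j, hj⟩ := E.isPGroup ⟨u, hu⟩
  have hj' : u ^ p ^ j = 1 := congrArg Subtype.val hj
  refine Equiv.ext fun z => ?_
  rw [Perm.one_apply]
  by_cases hz : z ∈ R
  · exact pow_fix (E.fixR u hu z hz) p
  haveI := Fact.mk E.prime
  -- the orbit of `z` under `⟨u⟩` lies in an orbit of length `p`
  have hper : Function.minimalPeriod u z ∣ p ^ j := by
    refine Function.IsPeriodicPt.minimalPeriod_dvd ?_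
    show (⇑u)^[p ^ j] z = z
    rw [← Perm.coe_pow, hj', Perm.one_apply]
  have hle : Function.minimalPeriod u z ≤ p := by
    rw [← E.cardOrb z hz]
    have h : ((Finset.range (Function.minimalPeriod u z)).image fun i => (⇑u)^[i] z).card =
        Function.minimalPeriod u z := by
      rw [Finset.card_image_of_injOn, Finset.card_range]
      intro i hi i' hi' e
      rw [Finset.coe_range, Set.mem_Iio] at hi hi'
      exact Function.iterate_injOn_Iio_minimalPeriod hi hi' e
    rw [← h, ← Set.ncard_coe_finset]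
    refine Set.ncard_le_ncard (fun y hy => ?_) (Set.toFinite _)
    simp only [Finset.coe_image, Set.mem_image] at hy
    obtain ⟨i, -, rfl⟩ := hy
    exact ⟨u ^ i, P.pow_mem hu i, by rw [Perm.coe_pow]⟩
  obtain ⟨i, -, hi⟩ := (Nat.dvd_prime_pow E.prime).1 hper
  have hdvd : Function.minimalPeriod u z ∣ p := by
    rcases i with _ | _ | i
    · rw [hi, pow_zero]; exact one_dvd _
    · rw [hi, pow_one]
    · exfalso
      have h2 : p ^ 2 ≤ Function.minimalPeriod u z := hi ▸ Nat.pow_le_pow_right E.prime.pos (by omega)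
      have := E.prime.two_le
      nlinarith
  have := (Function.isPeriodicPt_minimalPeriod u z).trans_dvd hdvd
  rw [Perm.coe_pow]
  exact this

/-- Every element fixing a point fixes its orbit. -/
theorem fix_orb {u : Perm α} (hu : u ∈ P) {z : α} (hz : z ∉ R) (h : u z = z) {y : α}
    (hy : y ∈ orb P z) : u y = y := by
  obtain ⟨v, hv, rfl⟩ := hy
  haveI := Fact.mk E.prime
  -- the stabiliser has index `p`, so it is normal
  let S := MulAction.stabilizer P z
  have hidx : S.index = p := by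
    rw [MulAction.index_stabilizer, ← E.cardOrb z hz]
    congr 1
    ext x
    simp only [MulAction.mem_orbit_iff, orb, Set.mem_ofPred_eq, Subtype.exists, Subgroup.mk_smul,
      exists_prop]
    rfl
  have hn : S.Normal := by
    haveI := E.isPGroup.isNilpotent
    refine (Subgroup.NormalizerCondition.normal_of_coatom S Group.normalizerCondition_of_isNilpotent
      ⟨fun e => ?_, fun L hL => ?_⟩)
    · rw [e, Subgroup.index_top] at hidx; exact E.prime.ne_one hidx.symm
    · have h1 := Subgroup.index_dvd_of_le hL.le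
      rw [hidx] at h1
      rcases (Nat.dvd_prime E.prime).1 h1 with h | h
      · exact Subgroup.index_eq_one.1 h
      · refine absurd (Subgroup.eq_of_le_of_card_ge hL.le ?_) hL.ne
        have e1 := L.card_mul_index
        have e2 := S.card_mul_index
        rw [h] at e1
        rw [hidx] at e2
        exact (Nat.eq_of_mul_eq_mul_right E.prime.pos (e1.trans e2.symm)).le
  have hmem : (⟨v, hv⟩ : P)⁻¹ * ⟨u, hu⟩ * ⟨v, hv⟩ ∈ S := by
    have := hn.conj_mem ⟨u, hu⟩ (show (⟨u, hu⟩ : P) ∈ S from h) (⟨v, hv⟩ : P)⁻¹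
    rwa [inv_inv] at this
  have h2 : v⁻¹ (u (v z)) = z := hmem
  exact (Perm.inv_eq_iff_eq.1 h2)

theorem exists_move {z : α} (hz : z ∉ R) : ∃ u ∈ P, u z ≠ z := by
  by_contra h
  push Not at h
  have : orb P z = {z} := by
    ext y
    exact ⟨fun ⟨u, hu, e⟩ => e ▸ h u hu, fun e => e ▸ self_mem_orb P z⟩
  have h1 := E.cardOrb z hz
  rw [this, Set.ncard_singleton] at h1
  exact E.prime.ne_one h1.symm

theorem pow_apply_inj {u : Perm α} (hu : u ∈ P) {z : α} (h : u z ≠ z) {i j : ℕ} (hi : i < p)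
    (hj : j < p) (e : (u ^ i) z = (u ^ j) z) : i = j := by
  haveI := Fact.mk E.prime
  have hper : Function.minimalPeriod u z = p := by
    refine ((Nat.dvd_prime E.prime).1 (Function.IsPeriodicPt.minimalPeriod_dvd ?_)).resolve_left
      fun e1 => h (Function.minimalPeriod_eq_one_iff_isFixedPt.1 e1)
    show (⇑u)^[p] z = z
    rw [← Perm.coe_pow, E.pow_eq_one hu, Perm.one_apply]
  rw [Perm.coe_pow, Perm.coe_pow] at e
  exact Function.iterate_injOn_Iio_minimalPeriod (by rw [Set.mem_Iio, hper]; exact hi)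
    (by rw [Set.mem_Iio, hper]; exact hj) e

/-- Every point of the orbit is a power of a moving element applied to the point. -/
theorem exists_pow {u : Perm α} (hu : u ∈ P) {z : α} (hz : z ∉ R) (h : u z ≠ z) {y : α}
    (hy : y ∈ orb P z) : ∃ i < p, (u ^ i) z = y := by
  have hs : ((Finset.range p).image fun i => (u ^ i) z : Set α) = orb P z := by
    refine Set.eq_of_subset_of_ncard_le (fun x hx => ?_) ?_ (Set.toFinite _)
    · simp only [Finset.coe_image, Set.mem_image] at hx
      obtain ⟨i, -, rfl⟩ := hx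
      exact ⟨u ^ i, P.pow_mem hu i, rfl⟩
    · rw [E.cardOrb z hz, Set.ncard_coe_finset, Finset.card_image_of_injOn, Finset.card_range]
      intro i hi i' hi' e
      rw [Finset.coe_range, Set.mem_Iio] at hi hi'
      exact E.pow_apply_inj hu h hi hi' e
  rw [← hs] at hy
  simp only [Finset.coe_image, Set.mem_image, Finset.coe_range, Set.mem_Iio] at hy
  exact hy

theorem comm {u v : Perm α} (hu : u ∈ P) (hv : v ∈ P) : u * v = v * u := by
  refine Equiv.ext fun z => ?_
  by_cases hz : z ∈ R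
  · rw [Perm.mul_apply, Perm.mul_apply, E.fixR u hu z hz, E.fixR v hv z hz, E.fixR u hu z hz]
  obtain ⟨w, hw, hwz⟩ := E.exists_move hz
  have key : ∀ a ∈ P, ∃ i, ∀ y ∈ orb P z, a y = (w ^ i) y := by
    intro a ha
    obtain ⟨i, -, hi⟩ := E.exists_pow hw hz hwz (y := a z) ⟨a, ha, rfl⟩
    refine ⟨i, fun y hy => ?_⟩
    have h := E.fix_orb (P.mul_mem (P.inv_mem (P.pow_mem hw i)) ha) hz
      (by rw [Perm.mul_apply, ← hi]; exact (w ^ i).symm_apply_apply z) hy
    rw [Perm.mul_apply, Perm.inv_eq_iff_eq] at h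
    exact h
  obtain ⟨i, hi⟩ := key u hu
  obtain ⟨j, hj⟩ := key v hv
  rw [Perm.mul_apply, Perm.mul_apply, hi (v z) ⟨v, hv, rfl⟩, hj (u z) ⟨u, hu, rfl⟩,
    hj z (self_mem_orb P z), hi z (self_mem_orb P z), ← Perm.mul_apply, ← Perm.mul_apply, ← pow_add,
    ← pow_add, add_comm]

/-- A normalising permutation fixing an orbit acts on it by an exponent. -/
theorem exists_exp {g : Perm α} (hg : ∀ u ∈ P, g * u * g⁻¹ ∈ P) {z : α} (hz : z ∉ R)
    (hgz : g z ∈ orb P z) : ∃ e : ℕ, ∀ u ∈ P, ∀ y ∈ orb P z, (g * u * g⁻¹) y = (u ^ e) y := by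
  obtain ⟨w, hw, hwz⟩ := E.exists_move hz
  obtain ⟨e, -, he⟩ := E.exists_pow hw hz hwz (y := (g * w * g⁻¹) z) ⟨_, hg w hw, rfl⟩
  refine ⟨e, fun u hu y hy => ?_⟩
  have hwy : (g * w * g⁻¹) y = (w ^ e) y := by
    have h := E.fix_orb (P.mul_mem (P.inv_mem (P.pow_mem hw e)) (hg w hw)) hz
      (by rw [Perm.mul_apply, ← he]; exact (w ^ e).symm_apply_apply z) hy
    rw [Perm.mul_apply, Perm.inv_eq_iff_eq] at h
    exact h
  obtain ⟨i, -, hi⟩ := E.exists_pow hw hz hwz (y := u z) ⟨u, hu, rfl⟩
  -- `u` agrees with `w ^ i` on the orbit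
  have hd : (w ^ i)⁻¹ * u ∈ P := P.mul_mem (P.inv_mem (P.pow_mem hw i)) hu
  have hdz : ((w ^ i)⁻¹ * u) z = z := by rw [Perm.mul_apply, ← hi]; exact (w ^ i).symm_apply_apply z
  have hdy : ∀ x ∈ orb P z, u x = (w ^ i) x := fun x hx => by
    have h := E.fix_orb hd hz hdz hx
    rw [Perm.mul_apply, Perm.inv_eq_iff_eq] at h
    exact h
  have horb : ∀ a ∈ P, ∀ x ∈ orb P z, a x ∈ orb P z := fun a ha x ⟨b, hb, hx⟩ =>
    ⟨a * b, P.mul_mem ha hb, by rw [Perm.mul_apply, hx]⟩
  -- powers of `u` on the orbit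
  have hpow : ∀ m, ∀ x ∈ orb P z, (u ^ m) x = (w ^ (i * m)) x := by
    intro m
    induction m with
    | zero => intro x _; simp
    | succ m ih =>
      intro x hx
      rw [pow_succ, Perm.mul_apply, hdy x hx, ih _ (horb _ (P.pow_mem hw i) x hx), ← Perm.mul_apply,
        ← pow_add, Nat.mul_succ]
  have hconj : ∀ m, ∀ x ∈ orb P z, (g * w ^ m * g⁻¹) x = (w ^ (e * m)) x := by
    intro m
    induction m with
    | zero => intro x _; simp
    | succ m ih =>
      intro x hx
      have hwx : (g * w * g⁻¹) x = (w ^ e) x := by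
        have h := E.fix_orb (P.mul_mem (P.inv_mem (P.pow_mem hw e)) (hg w hw)) hz
          (by rw [Perm.mul_apply, ← he]; exact (w ^ e).symm_apply_apply z) hx
        rw [Perm.mul_apply, Perm.inv_eq_iff_eq] at h
        exact h
      rw [show g * w ^ (m + 1) * g⁻¹ = (g * w ^ m * g⁻¹) * (g * w * g⁻¹) by rw [pow_succ]; group,
        Perm.mul_apply, hwx, ih _ (horb _ (P.pow_mem hw e) x hx), ← Perm.mul_apply, ← pow_add,
        Nat.mul_succ]
  have hgy : g⁻¹ y ∈ orb P z := by
    obtain ⟨a, ha, hax⟩ := hy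
    obtain ⟨b, hb, hbz⟩ := hgz
    -- `g⁻¹` normalises `P` as `P` is finite
    have hginv : ∀ u ∈ P, g⁻¹ * u * g ∈ P := by
      intro u hu
      let f : P → P := fun v => ⟨g * v * g⁻¹, hg v v.2⟩
      have hf : Function.Injective f := fun a b h => by
        have h' : g * (a : Perm α) * g⁻¹ = g * b * g⁻¹ := congrArg Subtype.val h
        exact Subtype.ext (mul_left_cancel (mul_right_cancel h'))
      obtain ⟨v, hv⟩ := Finite.surjective_of_injective hf ⟨u, hu⟩
      have hv' : g * v * g⁻¹ = u := congrArg Subtype.val hv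
      rw [← hv', show g⁻¹ * (g * (v : Perm α) * g⁻¹) * g = v by group]
      exact v.2
    refine ⟨g⁻¹ * (a * b⁻¹) * g, hginv _ (P.mul_mem ha (P.inv_mem hb)), ?_⟩
    rw [Perm.mul_apply, Perm.mul_apply, Perm.mul_apply, ← hbz,
      show b⁻¹ (b z) = z from b.symm_apply_apply z, hax]
  have h1 : (g * u * g⁻¹) y = (g * w ^ i * g⁻¹) y := by
    rw [Perm.mul_apply, Perm.mul_apply, Perm.mul_apply, Perm.mul_apply, hdy _ hgy]
  rw [h1, hconj i y hy, hpow e y hy, mul_comm]

/-- An element of `P` moving a single orbit is a `p`-cycle. -/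
theorem cycle_of_single {v : Perm α} (hv : v ∈ P) {z : α} (hz : z ∉ R) (hvz : v z ≠ z)
    (hsingle : ∀ y, v y ≠ y → y ∈ orb P z) : v.IsCycle ∧ v.support.card = p := by
  haveI := Fact.mk E.prime
  have ho : orderOf v = p := orderOf_eq_prime (E.pow_eq_one hv) fun e => hvz (by rw [e, Perm.one_apply])
  have hsup : v.support.card ≤ p := by
    rw [← E.cardOrb z hz, ← Set.ncard_coe_finset]
    exact Set.ncard_le_ncard (fun y hy => hsingle y (Perm.mem_support.1 hy)) (Set.toFinite _)
  have hc : v.IsCycle := Perm.isCycle_of_prime_order (ho.symm ▸ E.prime) (by rw [ho]; have := E.prime.pos; omega)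
  exact ⟨hc, hc.orderOf.symm.trans ho⟩

end Elem

end CfsgLib.KpR
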