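import Mathlib
import Cfsg.Agent.Lib.KpR.Basic
import Cfsg.Agent.S0711
import Cfsg.Agent.S0713
import Cfsg.Agent.S4221

/-!
Multiply transitive groups of degree `k * p + r` which are `(r + 1)`-fold transitive.
-/

open Equiv MulAction

set_option autoImplicit false
set_option linter.unusedSectionVars false

namespace CfsgLib.KpR

variable {α : Type*} [Fintype α] [DecidableEq α]

/-- The elements of `G` fixing `R` pointwise. -/
def fixR (G : Subgroup (Perm α)) (R : Finset α) : Subgroup (Perm α) where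
  carrier := {g | g ∈ G ∧ ∀ z ∈ R, g z = z}
  one_mem' := ⟨G.one_mem, fun _ _ => rfl⟩
  mul_mem' := by
    rintro g h ⟨hg, g1⟩ ⟨hh, h1⟩
    exact ⟨G.mul_mem hg hh, fun z hz => by rw [Perm.mul_apply, h1 z hz, g1 z hz]⟩
  inv_mem' := by
    rintro g ⟨hg, g1⟩
    exact ⟨G.inv_mem hg, fun z hz => Perm.inv_eq_iff_eq.2 (g1 z hz).symm⟩

theorem exists_map_finset {G : Subgroup (Perm α)} {t : ℕ}
    (hG : IsMultiplyPretransitive G α t) (S : Finset α) (hS : S.card = t) (f : S ↪ α) :
    ∃ g ∈ G, ∀ z : S, g z = f z := by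
  let e : Fin t ≃ S := (Finset.equivFinOfCardEq hS).symm
  obtain ⟨g, hg⟩ := isMultiplyPretransitive_iff.1 hG (e.toEmbedding.trans (Function.Embedding.subtype _))
    (e.toEmbedding.trans f)
  refine ⟨g, g.2, fun z => ?_⟩
  have h := congrArg (fun x : Fin t ↪ α => x (e.symm z)) hg
  simpa [Subgroup.smul_def] using h

/-- In `S_r` a nontrivial normal subgroup has an element whose `p`-th power is nontrivial. -/
theorem exists_pow_ne {β : Type*} [Fintype β] [DecidableEq β] {p : ℕ} (hp : p.Prime) (hp2 : p ≠ 2)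
    (h3 : 3 ≤ Fintype.card β) (hp3 : ¬ (p = 3 ∧ Fintype.card β = 3)) (X : Subgroup (Perm β))
    [hn : X.Normal] (hX : X ≠ ⊥) : ∃ σ ∈ X, σ ^ p ≠ 1 := by
  haveI := Fact.mk hp
  by_contra hall
  push Not at hall
  rcases Nat.lt_or_ge (Fintype.card β) 5 with hlt | hge
  · obtain ⟨σ, hσ, hσ1⟩ := (Subgroup.ne_bot_iff_exists_ne_one.1 hX : ∃ a : X, a ≠ 1) |> fun ⟨a, ha⟩ =>
      (⟨a.1, a.2, fun e => ha (Subtype.ext e)⟩ : ∃ σ, σ ∈ X ∧ σ ≠ 1)
    have ho : orderOf σ = p := orderOf_eq_prime (hall σ hσ) hσ1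
    have hdvd : p ∣ (Fintype.card β).factorial := by
      rw [← ho, ← Fintype.card_perm]; exact orderOf_dvd_card
    have hple : p ≤ Fintype.card β := hp.dvd_factorial.1 hdvd
    rcases (show Fintype.card β = 3 ∨ Fintype.card β = 4 by omega) with h | h
    · exact hp3 ⟨by have := hp.two_le; omega, h⟩
    · have hp' : p = 3 := by
        have := hp.two_le
        rcases (show p = 2 ∨ p = 3 ∨ p = 4 by omega) with e | e | e
        · exact absurd e hp2
        · exact e
        · rw [e] at hp; exact absurd hp (by decide)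
      let e : β ≃ Fin 4 := Fintype.equivFinOfCardEq h
      have key : ∀ s : Perm (Fin 4), s ^ 3 = 1 → s ≠ 1 → ∃ t : Perm (Fin 4), (s * (t * s * t⁻¹)) ^ 3 ≠ 1 := by decide +kernel
      let φ : Perm β ≃* Perm (Fin 4) := e.permCongrHom
      obtain ⟨t, ht⟩ := key (φ σ) (by rw [← map_pow, show σ ^ 3 = 1 from hp' ▸ hall σ hσ, map_one])
        (fun e => hσ1 (φ.map_eq_one_iff.1 e))
      refine ht ?_
      have h1 := hall _ (X.mul_mem hσ (hn.conj_mem σ hσ (φ.symm t)))
      rw [hp'] at h1
      have := congrArg φ h1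
      simpa [map_pow, map_mul] using this
  · haveI : Nontrivial X := (Subgroup.nontrivial_iff_ne_bot X).2 hX
    have hA := Perm.alternatingGroup_le_of_normal (α := β) (by rwa [Nat.card_eq_fintype_card]) (N := X) inferInstance
    -- a double transposition
    obtain ⟨f⟩ : Nonempty (Fin 4 ↪ β) := Function.Embedding.nonempty_of_card_le (by simpa using (by omega : 4 ≤ Fintype.card β))
    have ne : ∀ {i j : Fin 4}, i ≠ j → f i ≠ f j := fun h h' => h (f.injective h')
    let σ := swap (f 0) (f 1) * swap (f 2) (f 3)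
    have hmem : σ ∈ alternatingGroup β := by
      rw [Perm.mem_alternatingGroup, map_mul, Perm.sign_swap (ne (by decide)), Perm.sign_swap (ne (by decide))]
      rfl
    have h0 : σ (f 0) = f 1 := by
      simp [σ, swap_apply_of_ne_of_ne (ne (show (0 : Fin 4) ≠ 2 by decide)) (ne (show (0 : Fin 4) ≠ 3 by decide))]
    have h1 : σ (f 1) = f 0 := by
      simp [σ, swap_apply_of_ne_of_ne (ne (show (1 : Fin 4) ≠ 2 by decide)) (ne (show (1 : Fin 4) ≠ 3 by decide))]
    have hodd : p % 2 = 1 := Nat.odd_iff.1 (hp.odd_of_ne_two hp2)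
    have h2 : (σ ^ p) (f 0) = f 1 := by
      rw [show p = 2 * (p / 2) + 1 by omega, pow_succ, Perm.mul_apply, h0, pow_mul]
      exact pow_fix (by rw [pow_two, Perm.mul_apply, h1, h0]) _
    rw [hall σ (hA hmem), Perm.one_apply] at h2
    exact ne (show (0 : Fin 4) ≠ 1 by decide) h2

/-- If on one orbit the exponent differs from all the others, `P` contains a `p`-cycle. -/
theorem exists_single {p : ℕ} {R : Finset α} {P : Subgroup (Perm α)} (E : Elem p R P) {g : Perm α}
    (hg : ∀ u ∈ P, g * u * g⁻¹ ∈ P) (hfix : ∀ y, y ∉ R → g y ∈ orb P y) {z : α} (hz : z ∉ R) {e : ℕ}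
    (he : ∀ u ∈ P, ∀ y ∈ orb P z, (g * u * g⁻¹) y = (u ^ e) y) (S : Finset (Set α))
    (hS : ∀ O ∈ S, ∃ y, y ∉ R ∧ O = orb P y ∧ ∃ e', ¬ e ≡ e' [MOD p] ∧
      ∀ u ∈ P, ∀ x ∈ orb P y, (g * u * g⁻¹) x = (u ^ e') x) :
    ∃ v ∈ P, v z ≠ z ∧ ∀ O ∈ S, ∀ x ∈ O, v x = x := by
  induction S using Finset.induction with
  | empty => obtain ⟨u, hu, h⟩ := E.exists_move hz; exact ⟨u, hu, h, fun O hO => absurd hO (Finset.notMem_empty O)⟩
  | insert O S hOS ih =>
    obtain ⟨v, hv, hvz, hvS⟩ := ih fun O' h => hS O' (Finset.mem_insert_of_mem h)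
    obtain ⟨y, hy, rfl, e', hee, he'⟩ := hS _ (Finset.mem_insert_self _ _)
    have hinv : ∀ m, ∀ x, ((v ^ m)⁻¹ * (g * v * g⁻¹)) x = x ↔ (g * v * g⁻¹) x = (v ^ m) x := fun m x => by
      rw [Perm.mul_apply, Perm.inv_eq_iff_eq]
    refine ⟨(v ^ e')⁻¹ * (g * v * g⁻¹), P.mul_mem (P.inv_mem (P.pow_mem hv e')) (hg v hv), fun h => ?_, ?_⟩
    · rw [hinv, he v hv z (self_mem_orb P z)] at h
      refine hee ?_
      have h1 : (v ^ (e % p)) z = (v ^ (e' % p)) z := by
        rwa [← pow_eq_pow_mod e (E.pow_eq_one hv), ← pow_eq_pow_mod e' (E.pow_eq_one hv)]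
      exact E.pow_apply_inj hv hvz (Nat.mod_lt _ E.prime.pos) (Nat.mod_lt _ E.prime.pos) h1
    · intro O' hO' x hx
      rw [hinv]
      rcases Finset.mem_insert.1 hO' with rfl | hO'
      · exact he' v hv x hx
      · obtain ⟨y', hy', rfl, e'', -, he''⟩ := hS O' (Finset.mem_insert_of_mem hO')
        rw [he'' v hv x hx, pow_fix (hvS _ hO' x hx), pow_fix (hvS _ hO' x hx)]

theorem exists_elem {G : Subgroup (Perm α)} {k p r : ℕ} (hp : p.Prime)
    (hn : Fintype.card α = k * p + r) (hk : 1 ≤ k) (hpk : k < p)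
    (hG : IsMultiplyPretransitive G α (r + 1)) {R : Finset α} (hR : R.card = r) :
    ∃ P : Sylow p (fixR G R), Elem p R ((P : Subgroup (fixR G R)).map (fixR G R).subtype) := by
  haveI := Fact.mk hp
  obtain ⟨P⟩ : Nonempty (Sylow p (fixR G R)) := inferInstance
  refine ⟨P, hp, ?_, fun z hz => ?_, P.2.map _⟩
  · rintro _ ⟨u, -, rfl⟩ z hz
    exact u.2.2 z hz
  -- `(fixR G R)` is transitive outside `R`
  have hHorb : MulAction.orbit (fixR G R) z = ((Rᶜ : Finset α) : Set α) := by
    ext y
    simp only [Finset.coe_compl, Set.mem_compl_iff, SetLike.mem_coe]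
    constructor
    · rintro ⟨⟨g, hg⟩, rfl⟩ h
      exact hz (g.injective (hg.2 _ h) ▸ h)
    · intro hy
      classical
      let f : ↥(insert z R : Finset α) → α := fun x => if (x : α) = z then y else x
      have hf : Function.Injective f := by
        intro a b h
        have ha := Finset.mem_insert.1 a.2
        have hb := Finset.mem_insert.1 b.2
        simp only [f] at h
        by_cases ea : (a : α) = z <;> by_cases eb : (b : α) = z
        · exact Subtype.ext (ea.trans eb.symm)
        · rw [if_pos ea, if_neg eb] at h; exact absurd (h ▸ hb.resolve_left eb) hy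
        · rw [if_neg ea, if_pos eb] at h; exact absurd (h ▸ ha.resolve_left ea) hy
        · rw [if_neg ea, if_neg eb] at h; exact Subtype.ext h
      obtain ⟨g, hg, hgf⟩ := exists_map_finset hG (insert z R) (by rw [Finset.card_insert_of_notMem hz, hR]) ⟨f, hf⟩
      have h1 := hgf ⟨z, Finset.mem_insert_self _ _⟩
      simp [f] at h1
      refine ⟨⟨g, hg, fun x hx => ?_⟩, h1⟩
      have h2 := hgf ⟨x, Finset.mem_insert_of_mem hx⟩
      have hxz : x ≠ z := fun e => hz (e ▸ hx)
      simpa [f, hxz] using h2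
  have hkp : (MulAction.stabilizer (fixR G R) z).index = k * p := by
    rw [MulAction.index_stabilizer, hHorb, Set.ncard_coe_finset, Finset.card_compl, hR, hn, Nat.add_sub_cancel]
  -- the orbit under the Sylow subgroup
  have hPorb : MulAction.orbit (P : Subgroup (fixR G R)) z = orb ((P : Subgroup (fixR G R)).map (fixR G R).subtype) z := by
    ext y
    constructor
    · rintro ⟨u, rfl⟩
      exact ⟨((u : (fixR G R)) : Perm α), ⟨u.1, u.2, rfl⟩, rfl⟩
    · rintro ⟨_, ⟨u, hu, rfl⟩, rfl⟩
      exact ⟨⟨u, hu⟩, rfl⟩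
  rw [← hPorb, ← MulAction.index_stabilizer]
  obtain ⟨j, hj⟩ := IsPGroup.iff_card.1 P.2
  obtain ⟨i, -, hi⟩ := (Nat.dvd_prime_pow hp).1 (hj ▸ (MulAction.stabilizer (P : Subgroup (fixR G R)) z).index_dvd_card)
  have hle : p ^ i ≤ k * p := by
    rw [← hi, ← hkp, MulAction.index_stabilizer, MulAction.index_stabilizer]
    exact Set.ncard_le_ncard (by rintro _ ⟨u, rfl⟩; exact ⟨u.1, rfl⟩) (Set.toFinite _)
  rcases i with _ | _ | i
  · exfalso
    have hle' : (P : Subgroup (fixR G R)) ≤ MulAction.stabilizer (fixR G R) z := fun u hu => by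
      rw [pow_zero] at hi
      have h2 : (⟨u, hu⟩ : (P : Subgroup (fixR G R))) ∈ MulAction.stabilizer (P : Subgroup (fixR G R)) z := by
        rw [Subgroup.index_eq_one.1 hi]; exact Subgroup.mem_top _
      exact h2
    refine P.not_dvd_index ?_
    obtain ⟨c, hc⟩ := Subgroup.index_dvd_of_le hle'
    rw [hc, hkp]
    exact ⟨k * c, by ring⟩
  · rw [hi, pow_one]
  · exfalso
    have h2 : p ^ 2 ≤ k * p := (Nat.pow_le_pow_right hp.pos (by omega)).trans hle
    have h3 : k * p < p * p := Nat.mul_lt_mul_of_pos_right hpk hp.pos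
    rw [pow_two] at h2
    omega

theorem two_le_trans {G : Subgroup (Perm α)} {t : ℕ} (hG : IsMultiplyPretransitive G α t) {m : ℕ}
    (hm : m ≤ t) (ht : t ≤ Fintype.card α) : IsMultiplyPretransitive G α m := by
  haveI := hG
  exact isMultiplyPretransitive_of_le (n := t) hm (by rwa [Nat.card_eq_fintype_card])

/-- A group of degree `k * p + r` which is `(r + 1)`-fold transitive contains the alternating
group. -/
theorem main (G : Subgroup (Perm α)) {k p r : ℕ} (hp : p.Prime) (hn : Fintype.card α = k * p + r)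
    (hk : 1 ≤ k) (hpk : k < p) (hrk : k < r) (hex : ¬ (k = 1 ∧ r = 2))
    (hG : IsMultiplyPretransitive G α (r + 1)) : alternatingGroup α ≤ G := by
  classical
  haveI := Fact.mk hp
  have hp2 := hp.two_le
  have hr3 : 3 ≤ r := by omega
  have hkp : p ≤ k * p := Nat.le_mul_of_pos_left p hk
  have hrn : r + 1 ≤ Fintype.card α := by omega
  by_cases hsmall : k * p ≤ 3
  · haveI := hG
    refine _root_.IsMultiplyPretransitive.alternatingGroup_le (α := α) (G := G) ?_
    exact two_le_trans hG (by rw [Nat.card_eq_fintype_card]; omega) hrn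
  have hpodd : p ≠ 2 := by
    rintro rfl
    interval_cases k
    omega
  have hprim : IsPreprimitive G α := by
    haveI := two_le_trans hG (m := 2) (by omega) hrn
    exact isPreprimitive_of_is_two_pretransitive this
  by_cases hp3 : p = 3 ∧ r = 3
  · obtain ⟨rfl, rfl⟩ := hp3
    have hk2 : k = 2 := by omega
    subst hk2
    obtain ⟨x⟩ : Nonempty (Fin 4 ↪ α) := Function.Embedding.nonempty_of_card_le (by rw [Fintype.card_fin]; omega)
    rcases Nat.even_or_odd (Nat.card (stabilizer G x)) with he | ho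
    · -- an involution fixing four points
      haveI := Fact.mk Nat.prime_two
      obtain ⟨t, ht⟩ := exists_prime_orderOf_dvd_card' (G := stabilizer G x) 2 he.two_dvd
      have htt : orderOf ((t : G) : Perm α) = 2 := by rw [Subgroup.orderOf_coe, Subgroup.orderOf_coe, ht]
      refine (Cfsg.Agent.S0711.result G (k := 4) (by omega) (by omega) hG ((t : G) : Perm α) (t : G).2
        (fun e => by rw [e, orderOf_one] at htt; omega) ?_).2
      have hsub : ((t : G) : Perm α).support ⊆ ((Finset.univ : Finset (Fin 4)).map x)ᶜ := by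
        intro z hz
        rw [Finset.mem_compl, Finset.mem_map]
        rintro ⟨i, -, rfl⟩
        refine Perm.mem_support.1 hz ?_
        have h := t.2
        rw [MulAction.mem_stabilizer_iff] at h
        exact congrArg (fun y : Fin 4 ↪ α => y i) h
      have h1 := Finset.card_le_card hsub
      rw [Finset.card_compl, Finset.card_map, Finset.card_univ, Fintype.card_fin] at h1
      omega
    · rcases Cfsg.Agent.S4221.result G hG x ho with ⟨h, -⟩ | ⟨h, -⟩ | ⟨h, -⟩ <;> omega
  obtain ⟨R, -, hR⟩ := Finset.exists_subset_card_eq (s := (Finset.univ : Finset α)) (n := r)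
    (by rw [Finset.card_univ]; omega)
  obtain ⟨P0, E⟩ := exists_elem hp hn hk hpk hG hR
  set P := (P0 : Subgroup (fixR G R)).map (fixR G R).subtype with hPdef
  have hPH : P ≤ (fixR G R) := Subgroup.map_subtype_le _
  have hpn : p + 3 ≤ Fintype.card α := by omega
  -- a `p`-cycle is enough
  by_cases hcyc : ∃ v ∈ P, ∃ z, z ∉ R ∧ v z ≠ z ∧ ∀ y, v y ≠ y → y ∈ orb P z
  · obtain ⟨v, hv, z, hz, hvz, hs⟩ := hcyc
    obtain ⟨hc, hcard⟩ := E.cycle_of_single hv hz hvz hs
    exact Cfsg.Agent.S0713.result G hprim hp (by omega) hpn hc hcard (hPH hv).1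
  -- the group `N`
  let N : Subgroup (Perm α) :=
    { carrier := {g | g ∈ G ∧ (∀ z, g z ∈ R ↔ z ∈ R) ∧ ∀ u, g * u * g⁻¹ ∈ P ↔ u ∈ P}
      one_mem' := ⟨G.one_mem, fun _ => Iff.rfl, fun u => by simp⟩
      mul_mem' := by
        rintro g h ⟨hg, g1, g2⟩ ⟨hh, h1, h2⟩
        refine ⟨G.mul_mem hg hh, fun z => by rw [Perm.mul_apply, g1, h1], fun u => ?_⟩
        rw [show g * h * u * (g * h)⁻¹ = g * (h * u * h⁻¹) * g⁻¹ by group, g2, h2]
      inv_mem' := by
        rintro g ⟨hg, g1, g2⟩
        refine ⟨G.inv_mem hg, fun z => ?_, fun u => ?_⟩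
        · rw [← g1, show g (g⁻¹ z) = z from g.apply_symm_apply z]
        · rw [← g2, show g * (g⁻¹ * u * g⁻¹⁻¹) * g⁻¹ = u by group] }
  let ρ : N →* Perm {z : α // z ∈ R} :=
    { toFun := fun g => (g : Perm α).subtypePerm g.2.2.1
      map_one' := by ext; rfl
      map_mul' := fun g h => by ext; rfl }
  have hρapp : ∀ (g : N) (z : {z : α // z ∈ R}), ((ρ g z : {z : α // z ∈ R}) : α) = (g : Perm α) z := fun g z => rfl
  -- Witt's lemma
  have hsurj : Function.Surjective ρ := by
    intro σ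
    obtain ⟨g, hg, hgσ⟩ := exists_map_finset (two_le_trans hG (m := r) (by omega) hrn) R hR
      (σ.toEmbedding.trans (Function.Embedding.subtype _))
    have hgR : ∀ z, g z ∈ R ↔ z ∈ R := by
      intro z
      constructor
      · intro h
        have h2 := hgσ (σ.symm ⟨g z, h⟩)
        simp at h2
        rw [← h2]
        exact (σ.symm ⟨g z, h⟩).2
      · intro h
        rw [hgσ ⟨z, h⟩]
        exact (σ ⟨z, h⟩).2
    have hH' : ∀ u ∈ (fixR G R), g * u * g⁻¹ ∈ (fixR G R) := by
      intro u hu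
      refine ⟨G.mul_mem (G.mul_mem hg hu.1) (G.inv_mem hg), fun z hz => ?_⟩
      have hz' : g⁻¹ z ∈ R := by rw [← hgR, show g (g⁻¹ z) = z from g.apply_symm_apply z]; exact hz
      rw [Perm.mul_apply, Perm.mul_apply, hu.2 _ hz', show g (g⁻¹ z) = z from g.apply_symm_apply z]
    let c : (fixR G R) →* (fixR G R) :=
      { toFun := fun u => ⟨g * u * g⁻¹, hH' u u.2⟩
        map_one' := Subtype.ext (by simp)
        map_mul' := fun a b => Subtype.ext (by simp [mul_assoc]) }
    have hc : Function.Injective c := fun a b h =>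
      Subtype.ext (mul_left_cancel (mul_right_cancel (congrArg Subtype.val h : g * (a : Perm α) * g⁻¹ = g * b * g⁻¹)))
    have hcs : (((P0 : Subgroup (fixR G R)).map c)).index = (P0 : Subgroup (fixR G R)).index := by
      have h1 := ((P0 : Subgroup (fixR G R)).map c).card_mul_index
      rw [Subgroup.card_map_of_injective hc, ← (P0 : Subgroup (fixR G R)).card_mul_index] at h1
      exact Nat.eq_of_mul_eq_mul_left Nat.card_pos h1
    let Q : Sylow p (fixR G R) := (P0.2.map c).toSylow (by rw [hcs]; exact P0.not_dvd_index)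
    obtain ⟨h, hh⟩ := MulAction.exists_smul_eq (fixR G R) Q P0
    have hmap : ∀ u, u ∈ (P0 : Subgroup (fixR G R)) → h * c u * h⁻¹ ∈ (P0 : Subgroup (fixR G R)) := by
      intro u hu
      rw [← hh]
      exact Subgroup.smul_mem_pointwise_smul (c u) (MulAut.conj h) _ ⟨u, hu, rfl⟩
    have hfwd : ∀ u ∈ P, ((h : Perm α) * g) * u * ((h : Perm α) * g)⁻¹ ∈ P := by
      rintro _ ⟨u, hu, rfl⟩
      refine ⟨h * c u * h⁻¹, hmap u hu, ?_⟩
      simp [c, mul_assoc]
    have hbwd : ∀ u, ((h : Perm α) * g) * u * ((h : Perm α) * g)⁻¹ ∈ P → u ∈ P := by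
      intro u hu
      let f : P → P := fun v => ⟨((h : Perm α) * g) * v * ((h : Perm α) * g)⁻¹, hfwd v v.2⟩
      have hf : Function.Injective f := fun a b e =>
        Subtype.ext (mul_left_cancel (mul_right_cancel (congrArg Subtype.val e :
          (h : Perm α) * g * (a : Perm α) * ((h : Perm α) * g)⁻¹ = (h : Perm α) * g * b * ((h : Perm α) * g)⁻¹)))
      obtain ⟨v, hv⟩ := Finite.surjective_of_injective hf ⟨_, hu⟩
      have hv' : (h : Perm α) * g * (v : Perm α) * ((h : Perm α) * g)⁻¹ = (h : Perm α) * g * u * ((h : Perm α) * g)⁻¹ :=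
        congrArg Subtype.val hv
      rw [← mul_left_cancel (mul_right_cancel hv')]
      exact v.2
    have hgR' : ∀ z, ((h : Perm α) * g) z ∈ R ↔ z ∈ R := by
      intro z
      rw [Perm.mul_apply]
      refine Iff.trans ⟨fun e => ?_, fun e => ?_⟩ (hgR z)
      · have h' := h.2.2 _ e
        rwa [(h : Perm α).injective h'] at e
      · rw [h.2.2 _ e]; exact e
    refine ⟨⟨(h : Perm α) * g, G.mul_mem h.2.1 hg, hgR', fun u => ⟨hbwd u, hfwd u⟩⟩, ?_⟩
    refine Equiv.ext fun z => Subtype.ext ?_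
    rw [hρapp, Perm.mul_apply, hgσ z]
    exact h.2.2 _ (σ z).2
  -- the orbits
  let T := {O : Set α // ∃ z, z ∉ R ∧ orb P z = O}
  have hT : Nat.card T = k := by
    let f : {z : α // z ∉ R} → T := fun z => ⟨orb P z.1, z.1, z.2, rfl⟩
    have hfib : ∀ O : T, Nat.card {z // f z = O} = p := by
      rintro ⟨O, z, hz, rfl⟩
      rw [← E.cardOrb z hz, ← Nat.card_coe_set_eq]
      refine Nat.card_congr ⟨fun y => ⟨y.1.1, (congrArg Subtype.val y.2 : orb P y.1.1 = orb P z).le (self_mem_orb P y.1.1)⟩,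
        fun y => ⟨⟨y.1, fun h => ?_⟩, Subtype.ext (orb_eq_of_mem y.2)⟩, fun y => rfl, fun y => rfl⟩
      obtain ⟨u, hu, e⟩ := y.2
      exact E.apply_notMem hu hz (by rw [e]; exact h)
    have h1 : Nat.card {z : α // z ∉ R} = Nat.card T * p := by
      have := Fintype.ofFinite T
      rw [← Nat.card_congr (Equiv.sigmaFiberEquiv f), Nat.card_sigma]
      simp only [hfib, Finset.sum_const, Finset.card_univ, smul_eq_mul, Nat.card_eq_fintype_card]
    rw [Nat.card_eq_fintype_card, Fintype.card_subtype_compl, Fintype.card_coe, hR, hn, Nat.add_sub_cancel] at h1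
    exact (Nat.eq_of_mul_eq_mul_right hp.pos h1).symm
  have hgN : ∀ (g : N) (z : α), (g : Perm α) '' orb P z = orb P ((g : Perm α) z) := by
    intro g z
    ext y
    constructor
    · rintro ⟨_, ⟨u, hu, rfl⟩, rfl⟩
      refine ⟨(g : Perm α) * u * (g : Perm α)⁻¹, (g.2.2.2 u).2 hu, ?_⟩
      simp [Perm.mul_apply]
    · rintro ⟨u, hu, rfl⟩
      refine ⟨((g : Perm α)⁻¹ * u * (g : Perm α)) z, ⟨_, ?_, rfl⟩, ?_⟩
      · rw [← g.2.2.2, show (g : Perm α) * ((g : Perm α)⁻¹ * u * (g : Perm α)) * (g : Perm α)⁻¹ = u by group]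
        exact hu
      · simp [Perm.mul_apply]
  let act : MulAction N T :=
    { smul := fun g O => ⟨(g : Perm α) '' O.1, by
        obtain ⟨z, hz, e⟩ := O.2
        exact ⟨(g : Perm α) z, fun h => hz ((g.2.2.1 z).1 h), by rw [← e, hgN]⟩⟩
      one_smul := fun O => Subtype.ext (by show ((1 : N) : Perm α) '' O.1 = O.1; simp)
      mul_smul := fun g h O => Subtype.ext (by
        show ((g * h : N) : Perm α) '' O.1 = (g : Perm α) '' ((h : Perm α) '' O.1)
        rw [Set.image_image]; rfl) }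
  let θ : N →* Perm T := MulAction.toPermHom N T
  let K : Subgroup N := θ.ker
  have hKorb : ∀ g ∈ K, ∀ z, z ∉ R → (g : Perm α) z ∈ orb P z := by
    intro g hg z hz
    have h := congrArg (fun s : Perm T => (s ⟨orb P z, z, hz, rfl⟩).1) (MonoidHom.mem_ker.1 hg)
    have h' : (g : Perm α) '' orb P z = orb P z := h
    rw [← h']
    exact ⟨z, self_mem_orb P z, rfl⟩
  have hexp : ∀ g ∈ K, ∀ z, z ∉ R → ∃ e : ℕ, ∀ u ∈ P, ∀ y ∈ orb P z,
      ((g : Perm α) * u * (g : Perm α)⁻¹) y = (u ^ e) y :=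
    fun g hg z hz => E.exists_exp (fun u hu => (g.2.2.2 u).2 hu) hz (hKorb g hg z hz)
  -- the elements of `K` centralising `P`
  let C : Subgroup N :=
    { carrier := {g | g ∈ K ∧ ∀ u ∈ P, (g : Perm α) * u = u * (g : Perm α)}
      one_mem' := ⟨K.one_mem, fun u _ => by simp⟩
      mul_mem' := by
        rintro g h ⟨hg, g1⟩ ⟨hh, h1⟩
        refine ⟨K.mul_mem hg hh, fun u hu => ?_⟩
        rw [Subgroup.coe_mul, mul_assoc, h1 u hu, ← mul_assoc, g1 u hu, mul_assoc]
      inv_mem' := by
        rintro g ⟨hg, g1⟩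
        refine ⟨K.inv_mem hg, fun u hu => ?_⟩
        rw [Subgroup.coe_inv, eq_mul_inv_iff_mul_eq, mul_assoc, inv_mul_eq_iff_eq_mul]
        exact (g1 u hu).symm }
  haveI hCn : C.Normal := by
    refine ⟨fun c hc n => ⟨(MonoidHom.normal_ker θ).conj_mem c hc.1 n, fun u hu => ?_⟩⟩
    have h' : (n : Perm α)⁻¹ * u * (n : Perm α) ∈ P := by
      rw [← n.2.2.2, show (n : Perm α) * ((n : Perm α)⁻¹ * u * (n : Perm α)) * (n : Perm α)⁻¹ = u by group]
      exact hu
    calc ((n * c * n⁻¹ : N) : Perm α) * u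
        = (n : Perm α) * ((c : Perm α) * ((n : Perm α)⁻¹ * u * (n : Perm α))) * (n : Perm α)⁻¹ := by
          simp only [Subgroup.coe_mul, Subgroup.coe_inv]; group
      _ = (n : Perm α) * (((n : Perm α)⁻¹ * u * (n : Perm α)) * (c : Perm α)) * (n : Perm α)⁻¹ := by rw [hc.2 _ h']
      _ = u * ((n * c * n⁻¹ : N) : Perm α) := by simp only [Subgroup.coe_mul, Subgroup.coe_inv]; group
  have commute_of : ∀ g : N, g ∈ K → (∀ u ∈ P, (g : Perm α) * u * (g : Perm α)⁻¹ = u) → g ∈ C :=
    fun g hg h => ⟨hg, fun u hu => mul_inv_eq_iff_eq_mul.1 (h u hu)⟩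
  -- commutators of `K` centralise `P`
  have hKK : ∀ g ∈ K, ∀ h ∈ K, g * h * g⁻¹ * h⁻¹ ∈ C := by
    intro g hg h hh
    refine commute_of _ (K.mul_mem (K.mul_mem (K.mul_mem hg hh) (K.inv_mem hg)) (K.inv_mem hh)) fun u hu => ?_
    have key : ∀ a ∈ K, ∀ b ∈ K, ∀ u ∈ P, ∀ z, z ∉ R → ∀ e e' : ℕ,
        (∀ v ∈ P, ∀ y ∈ orb P z, ((a : Perm α) * v * (a : Perm α)⁻¹) y = (v ^ e) y) →
        (∀ v ∈ P, ∀ y ∈ orb P z, ((b : Perm α) * v * (b : Perm α)⁻¹) y = (v ^ e') y) →
        (((a * b : N) : Perm α) * u * ((a * b : N) : Perm α)⁻¹) z = (u ^ (e' * e)) z := by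
      intro a ha b hb u hu z hz e e' hea heb
      have hbu : (b : Perm α) * u * (b : Perm α)⁻¹ ∈ P := (b.2.2.2 u).2 hu
      rw [Subgroup.coe_mul, show (a : Perm α) * b * u * ((a : Perm α) * b)⁻¹ =
        (a : Perm α) * ((b : Perm α) * u * (b : Perm α)⁻¹) * (a : Perm α)⁻¹ by group, hea _ hbu z (self_mem_orb P z)]
      have hpow : ∀ m, ∀ y ∈ orb P z, (((b : Perm α) * u * (b : Perm α)⁻¹) ^ m) y = ((u ^ e') ^ m) y := by
        intro m
        induction m with
        | zero => intro y _; simp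
        | succ m ih =>
          intro y hy
          rw [pow_succ, pow_succ]
          show (((b : Perm α) * u * (b : Perm α)⁻¹) ^ m) (((b : Perm α) * u * (b : Perm α)⁻¹) y) = ((u ^ e') ^ m) ((u ^ e') y)
          rw [heb u hu y hy]
          exact ih _ (by
            obtain ⟨w, hw, rfl⟩ := hy
            exact ⟨u ^ e' * w, P.mul_mem (P.pow_mem hu e') hw, rfl⟩)
      rw [hpow e z (self_mem_orb P z), ← pow_mul]
    have heq : ∀ v ∈ P, ((g * h : N) : Perm α) * v * ((g * h : N) : Perm α)⁻¹ =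
        ((h * g : N) : Perm α) * v * ((h * g : N) : Perm α)⁻¹ := by
      intro v hv
      refine Equiv.ext fun z => ?_
      by_cases hz : z ∈ R
      · rw [E.fixR _ (((g * h : N).2.2.2 v).2 hv) z hz, E.fixR _ (((h * g : N).2.2.2 v).2 hv) z hz]
      obtain ⟨e, he⟩ := hexp g hg z hz
      obtain ⟨e', he'⟩ := hexp h hh z hz
      rw [key g hg h hh v hv z hz e e' he he', key h hh g hg v hv z hz e' e he' he, mul_comm]
    have hv : ((h * g : N) : Perm α)⁻¹ * u * ((h * g : N) : Perm α) ∈ P := by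
      rw [← (h * g : N).2.2.2, show ((h * g : N) : Perm α) * (((h * g : N) : Perm α)⁻¹ * u * ((h * g : N) : Perm α)) *
        ((h * g : N) : Perm α)⁻¹ = u by group]
      exact hu
    have h2 := heq _ hv
    simp only [Subgroup.coe_mul, Subgroup.coe_inv] at h2 ⊢
    calc _ = (g : Perm α) * h * (((h : Perm α) * g)⁻¹ * u * ((h : Perm α) * g)) * ((g : Perm α) * h)⁻¹ := by group
      _ = (h : Perm α) * g * (((h : Perm α) * g)⁻¹ * u * ((h : Perm α) * g)) * ((h : Perm α) * g)⁻¹ := h2
      _ = u := by group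
  -- the image of `K`
  have hfac : ∀ a b : ℕ, b ≤ 2 ∨ b < r → a ∣ b.factorial → a ≠ r.factorial := by
    intro a b hb ha e
    have h1 := Nat.le_of_dvd b.factorial_pos ha
    have h2 : b.factorial < r.factorial := by
      rcases hb with hb | hb
      · exact lt_of_le_of_lt (Nat.factorial_le hb) ((Nat.factorial_lt (by omega)).2 (by omega))
      · rcases Nat.eq_zero_or_pos b with rfl | hb0
        · exact lt_of_le_of_lt (Nat.factorial_le (Nat.zero_le 2)) ((Nat.factorial_lt (by omega)).2 (by omega))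
        · exact (Nat.factorial_lt hb0).2 hb
    omega
  have hrP : Nat.card (Perm {z : α // z ∈ R}) = r.factorial := by
    rw [Nat.card_perm, Nat.card_eq_fintype_card, Fintype.card_coe, hR]
  have hM : K.map ρ ≠ ⊥ := by
    intro e
    rw [Subgroup.map_eq_bot_iff] at e
    have h1 : ρ.ker.index = r.factorial := by
      rw [Subgroup.index_ker, MonoidHom.range_eq_top.2 hsurj, Subgroup.card_top, hrP]
    have h2 := (Subgroup.index_dvd_of_le e).trans (dvd_of_eq (Subgroup.index_ker θ))
    have h3 := h2.trans (Subgroup.card_subgroup_dvd_card θ.range)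
    rw [Nat.card_perm, hT, h1] at h3
    exact hfac _ k (Or.inr hrk) h3 rfl
  haveI : (K.map ρ).Normal := (MonoidHom.normal_ker θ).map ρ hsurj
  haveI : (C.map ρ).Normal := hCn.map ρ hsurj
  have hcenter : ∀ σ : Perm {z : α // z ∈ R}, (∀ τ, τ * σ = σ * τ) → σ = 1 := by
    intro σ hσ
    refine Equiv.ext fun a => ?_
    by_contra ha
    rw [Perm.one_apply] at ha
    obtain ⟨b, hb1, hb2⟩ : ∃ b, b ≠ a ∧ b ≠ σ a := by
      by_contra hall
      push Not at hall
      have hsub : (Finset.univ : Finset {z : α // z ∈ R}) ⊆ {a, σ a} := fun b _ => by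
        rw [Finset.mem_insert, Finset.mem_singleton]
        exact or_iff_not_imp_left.2 (hall b)
      have h1 := (Finset.card_le_card hsub).trans Finset.card_le_two
      rw [Finset.card_univ, Fintype.card_coe, hR] at h1
      omega
    have h := congrArg (fun τ : Perm {z : α // z ∈ R} => τ a) (hσ (swap (σ a) b))
    simp only [Perm.mul_apply, swap_apply_left, swap_apply_of_ne_of_ne (Ne.symm ha) hb1.symm] at h
    exact hb2 h
  have hX : C.map ρ ≠ ⊥ := by
    intro e
    have hmem : ∀ g ∈ C, ρ g = 1 := fun g hg => by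
      have : ρ g ∈ C.map ρ := ⟨g, hg, rfl⟩
      rwa [e, Subgroup.mem_bot] at this
    rcases Nat.lt_or_ge r 5 with hr | hr
    · -- the exponents are constant
      refine hM (eq_bot_iff.2 ?_)
      rintro _ ⟨g, hg, rfl⟩
      rw [Subgroup.mem_bot]
      refine hcenter _ fun τ => ?_
      obtain ⟨n, rfl⟩ := hsurj τ
      choose ez hez using hexp g hg
      have hconst : ∀ z y, ∀ hz : z ∉ R, ∀ hy : y ∉ R, ez z hz ≡ ez y hy [MOD p] := by
        have hsameorb : ∀ z y, ∀ hz : z ∉ R, ∀ hy : y ∉ R, orb P z = orb P y → ez z hz ≡ ez y hy [MOD p] := by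
          intro z y hz hy he
          obtain ⟨u, hu, huz⟩ := E.exists_move hz
          have h1 := hez z hz u hu z (self_mem_orb P z)
          have h2 := hez y hy u hu z (he ▸ self_mem_orb P z)
          rw [h1, pow_eq_pow_mod (ez z hz) (E.pow_eq_one hu), pow_eq_pow_mod (ez y hy) (E.pow_eq_one hu)] at h2
          exact E.pow_apply_inj hu huz (Nat.mod_lt _ hp.pos) (Nat.mod_lt _ hp.pos) h2
        -- no orbit has an exponent different from all others
        have hno : ∀ z, ∀ hz : z ∉ R, ∃ y, ∃ hy : y ∉ R, orb P y ≠ orb P z ∧ ez z hz ≡ ez y hy [MOD p] ∨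
            (∀ y, ∀ _ : y ∉ R, orb P y = orb P z) := by
          intro z hz
          by_contra hne
          push Not at hne
          obtain ⟨hne1, y0, hy0, hy0'⟩ : (∀ y, ∀ hy : y ∉ R, orb P y ≠ orb P z → ¬ ez z hz ≡ ez y hy [MOD p]) ∧
              ∃ y0, ∃ _ : y0 ∉ R, orb P y0 ≠ orb P z := ⟨fun y hy => (hne y hy).1, let ⟨y1, h1, h1'⟩ := (hne z hz).2; ⟨y1, h1, h1'⟩⟩
          have := Fintype.ofFinite T
          let S : Finset (Set α) := ((Finset.univ : Finset T).image Subtype.val).erase (orb P z)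
          obtain ⟨v, hv, hvz, hvS⟩ := exists_single E (g := (g : Perm α)) (fun u hu => (g.2.2.2 u).2 hu)
            (hKorb g hg) hz (hez z hz) S (by
            intro O hO
            rw [Finset.mem_erase] at hO
            obtain ⟨hOz, hO⟩ := hO
            obtain ⟨⟨O', y, hy, rfl⟩, -, rfl⟩ := Finset.mem_image.1 hO
            exact ⟨y, hy, rfl, ez y hy, hne1 y hy hOz, hez y hy⟩)
          refine hcyc ⟨v, hv, z, hz, hvz, fun y hy => ?_⟩
          have hyR : y ∉ R := fun h => hy (E.fixR v hv y h)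
          by_contra hy'
          refine hy (hvS (orb P y) ?_ y (self_mem_orb P y))
          rw [Finset.mem_erase]
          refine ⟨fun e => hy' (e ▸ self_mem_orb P y), Finset.mem_image.2 ⟨⟨orb P y, y, hyR, rfl⟩, Finset.mem_univ _, rfl⟩⟩
        intro z y hz hy
        by_cases he : orb P z = orb P y
        · exact hsameorb z y hz hy he
        by_contra hne
        obtain ⟨z', hz', ⟨hz'1, hz'2⟩ | hall⟩ := hno z hz
        swap
        · exact he (hall y hy).symm
        obtain ⟨y', hy', ⟨hy'1, hy'2⟩ | hall⟩ := hno y hy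
        swap
        · exact he (hall z hz)
        have hzy : orb P z' ≠ orb P y := fun e => hne (hz'2.trans (hsameorb z' y hz' hy e))
        have hyz : orb P y' ≠ orb P z := fun e => hne ((hsameorb z y' hz hy' e.symm).trans hy'2.symm)
        have hzy' : orb P z' ≠ orb P y' := fun e =>
          hne ((hz'2.trans (hsameorb z' y' hz' hy' e)).trans hy'2.symm)
        let t : Fin 4 → T := ![⟨_, z, hz, rfl⟩, ⟨_, y, hy, rfl⟩, ⟨_, z', hz', rfl⟩, ⟨_, y', hy', rfl⟩]
        have ht : Function.Injective t := by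
          intro i j hij
          have := congrArg Subtype.val hij
          fin_cases i <;> fin_cases j <;> simp [t] at this ⊢ <;>
            first
              | exact absurd this he | exact absurd this.symm he | exact absurd this.symm hz'1
              | exact absurd this hz'1 | exact absurd this hy'1 | exact absurd this.symm hy'1
              | exact absurd this hzy | exact absurd this.symm hzy | exact absurd this hyz
              | exact absurd this.symm hyz | exact absurd this hzy' | exact absurd this.symm hzy'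
        have := Nat.card_le_card_of_injective t ht
        rw [Nat.card_eq_fintype_card, Fintype.card_fin, hT] at this
        omega
      obtain ⟨z0, hz0⟩ : ∃ z0, z0 ∉ R := by
        by_contra hall
        push Not at hall
        have := Finset.card_le_card (s := Finset.univ) (t := R) fun z _ => hall z
        rw [Finset.card_univ, hR] at this
        omega
      obtain ⟨e0, he0⟩ : ∃ e0, e0 = ez z0 hz0 := ⟨_, rfl⟩
      have hscal : ∀ u ∈ P, (g : Perm α) * u * (g : Perm α)⁻¹ = u ^ e0 := by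
        intro u hu
        refine Equiv.ext fun z => ?_
        by_cases hz : z ∈ R
        · rw [E.fixR _ ((g.2.2.2 u).2 hu) z hz, E.fixR _ (P.pow_mem hu e0) z hz]
        · rw [hez z hz u hu z (self_mem_orb P z), pow_eq_pow_mod (ez z hz) (E.pow_eq_one hu),
            pow_eq_pow_mod e0 (E.pow_eq_one hu), he0, hconst z z0 hz hz0]
      have hc : n * g * n⁻¹ * g⁻¹ ∈ C := by
        refine commute_of _ (K.mul_mem ((MonoidHom.normal_ker θ).conj_mem g hg n) (K.inv_mem hg)) fun u hu => ?_
        have hv : (g : Perm α)⁻¹ * u * (g : Perm α) ∈ P := by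
          rw [← g.2.2.2, show (g : Perm α) * ((g : Perm α)⁻¹ * u * (g : Perm α)) * (g : Perm α)⁻¹ = u by group]
          exact hu
        set v := (g : Perm α)⁻¹ * u * (g : Perm α) with hvdef
        have hv' : (n : Perm α)⁻¹ * v * (n : Perm α) ∈ P := by
          rw [← n.2.2.2, show (n : Perm α) * ((n : Perm α)⁻¹ * v * (n : Perm α)) * (n : Perm α)⁻¹ = v by group]
          exact hv
        simp only [Subgroup.coe_mul, Subgroup.coe_inv]
        calc _ = (n : Perm α) * ((g : Perm α) * ((n : Perm α)⁻¹ * v * (n : Perm α)) * (g : Perm α)⁻¹) * (n : Perm α)⁻¹ := by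
              rw [hvdef]; group
          _ = (n : Perm α) * ((n : Perm α)⁻¹ * v * (n : Perm α)) ^ e0 * (n : Perm α)⁻¹ := by rw [hscal _ hv']
          _ = v ^ e0 := by rw [← conj_pow]; group
          _ = (g : Perm α) * v * (g : Perm α)⁻¹ := (hscal v hv).symm
          _ = u := by rw [hvdef]; group
      have h1 := hmem _ hc
      rw [map_mul, map_mul, map_mul, map_inv, map_inv, mul_inv_eq_one, mul_inv_eq_iff_eq_mul] at h1
      exact h1
    · -- `K` maps onto at least the alternating group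
      haveI : Nontrivial (K.map ρ) := (Subgroup.nontrivial_iff_ne_bot _).2 hM
      have hA := Perm.alternatingGroup_le_of_normal (α := {z : α // z ∈ R})
        (by rw [Nat.card_eq_fintype_card, Fintype.card_coe, hR]; omega) (N := K.map ρ) inferInstance
      obtain ⟨f⟩ : Nonempty (Fin 5 ↪ {z : α // z ∈ R}) :=
        Function.Embedding.nonempty_of_card_le (by rw [Fintype.card_fin, Fintype.card_coe, hR]; omega)
      have ne : ∀ {i j : Fin 5}, i ≠ j → f i ≠ f j := fun h h' => h (f.injective h')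
      let σ := swap (f 0) (f 1) * swap (f 0) (f 2)
      let τ := swap (f 0) (f 3) * swap (f 0) (f 4)
      have hσ : σ ∈ alternatingGroup {z : α // z ∈ R} := by
        rw [Perm.mem_alternatingGroup, map_mul, Perm.sign_swap (ne (by decide)), Perm.sign_swap (ne (by decide))]
        rfl
      have hτ : τ ∈ alternatingGroup {z : α // z ∈ R} := by
        rw [Perm.mem_alternatingGroup, map_mul, Perm.sign_swap (ne (by decide)), Perm.sign_swap (ne (by decide))]
        rfl
      obtain ⟨a, ha, eσ⟩ := hA hσ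
      obtain ⟨b, hb, eτ⟩ := hA hτ
      have h1 := hmem _ (hKK a ha b hb)
      rw [map_mul, map_mul, map_mul, map_inv, map_inv, eσ, eτ, mul_inv_eq_one, mul_inv_eq_iff_eq_mul] at h1
      -- `σ τ` and `τ σ` differ at `f 0`
      have h2 := congrArg (fun s : Perm {z : α // z ∈ R} => s (f 0)) h1
      simp [σ, τ, swap_apply_of_ne_of_ne (ne (show (2 : Fin 5) ≠ 0 by decide)) (ne (show (2 : Fin 5) ≠ 1 by decide)),
        swap_apply_of_ne_of_ne (ne (show (4 : Fin 5) ≠ 0 by decide)) (ne (show (4 : Fin 5) ≠ 1 by decide)),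
        swap_apply_of_ne_of_ne (ne (show (4 : Fin 5) ≠ 0 by decide)) (ne (show (4 : Fin 5) ≠ 2 by decide)),
        swap_apply_of_ne_of_ne (ne (show (4 : Fin 5) ≠ 0 by decide)) (ne (show (4 : Fin 5) ≠ 3 by decide)),
        swap_apply_of_ne_of_ne (ne (show (2 : Fin 5) ≠ 0 by decide)) (ne (show (2 : Fin 5) ≠ 3 by decide)),
        swap_apply_of_ne_of_ne (ne (show (2 : Fin 5) ≠ 0 by decide)) (ne (show (2 : Fin 5) ≠ 4 by decide))] at h2
  obtain ⟨_, ⟨g, hg, rfl⟩, hgp⟩ := exists_pow_ne hp hpodd (β := {z : α // z ∈ R})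
    (by rw [Fintype.card_coe, hR]; omega) (by rw [Fintype.card_coe, hR]; exact hp3) (C.map ρ) hX
  -- the support of `g ^ p` lies in `R`
  have hsupp : ((g : Perm α) ^ p).support ⊆ R := by
    intro z hz
    by_contra hzR
    refine Perm.mem_support.1 hz ?_
    obtain ⟨u, hu, hgu⟩ := hKorb g hg.1 z hzR
    have hpow : ∀ m, ((g : Perm α) ^ m) z = (u ^ m) z := by
      intro m
      induction m with
      | zero => rfl
      | succ m ih =>
        rw [pow_succ', Perm.mul_apply, ih, ← Perm.mul_apply, hg.2 _ (P.pow_mem hu m), Perm.mul_apply, ← hgu,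
          ← Perm.mul_apply, ← pow_succ]
    rw [hpow, E.pow_eq_one hu, Perm.one_apply]
  have hne : (g : Perm α) ^ p ≠ 1 := fun e => hgp (by
    rw [← map_pow]
    refine Equiv.ext fun z => Subtype.ext ?_
    rw [hρapp, Subgroup.coe_pow, e]
    rfl)
  refine (Cfsg.Agent.S0711.result G (k := r + 1) (by omega) hrn hG _ (G.pow_mem g.2.1 p) hne ?_).2
  have := Finset.card_le_card hsupp
  omega

end CfsgLib.KpR
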